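import Cfsg.Agent.ChevalleyStructure.XColumns
import Cfsg.Agent.ChevalleyStructure.RootVec
import Cfsg.Agent.Prune
set_option linter.all false
prune_inst 0x7f00000000000000000000000000000000000000000000000000000000000000000000000000000000000000000000000000000000000000000000000000000000000000000000000000000000000000003fffffffffffffffffffffffffffbeffbdffffffff
open scoped Cfsg.Agent.FastGrp

/-!
# S1920: the natural module of a subsystem of type `D_m` (helper736)

* `Sp` : sparse integer matrices; `sm` : their value over a field;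
* `Tb` : tables of the matrices of the root elements; `Tb.chk` : the kernel check;
* `Tb.Ok.root` : `Θ (x_r(t) v) = (1 + t E_r) Θ v (1 - t E_r)` for the roots `r` of the subsystem and `v` in its Lie algebra.
-/

set_option autoImplicit false
set_option linter.unusedSectionVars false

namespace Cfsg.Agent.H736.Co3

open Cfsg.Lie Cfsg.Agent.ChevalleyStructure Cfsg.Agent.ChevalleyStructure.XColumns Matrix

universe u

/-! ### sparse matrices -/

/-- index of the natural module -/
def ix (m : ℕ) [NeZero m] (i : ℕ) : Fin m ⊕ Fin m :=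
  if i < m then Sum.inl (Fin.ofNat m i) else Sum.inr (Fin.ofNat m (i - m))

theorem ix_inj {m : ℕ} [NeZero m] {i j : ℕ} (hi : i < m + m) (hj : j < m + m) (h : ix m i = ix m j) : i = j := by
  unfold ix at h
  split_ifs at h with h1 h2 h2
  · have h3 := congrArg Fin.val (Sum.inl_injective h)
    rw [Fin.val_ofNat, Fin.val_ofNat, Nat.mod_eq_of_lt h1, Nat.mod_eq_of_lt h2] at h3
    exact h3
  · have h3 := congrArg Fin.val (Sum.inr_injective h)
    rw [Fin.val_ofNat, Fin.val_ofNat, Nat.mod_eq_of_lt (by omega), Nat.mod_eq_of_lt (by omega)] at h3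
    omega

/-- sparse integer matrices -/
abbrev Sp := List (ℕ × ℕ × ℤ)

/-- all indices are in range -/
def wf (m : ℕ) (L : Sp) : Bool := L.all fun e => Nat.blt e.1 (m + m) && Nat.blt e.2.1 (m + m)

def mulS (A B : Sp) : Sp :=
  A.flatMap fun a => B.flatMap fun b => bif Nat.beq a.2.1 b.1 then [(a.1, b.2.1, a.2.2 * b.2.2)] else []

def scl (c : ℤ) (A : Sp) : Sp := A.map fun a => (a.1, a.2.1, c * a.2.2)

/-- sum of the entries at `(i, j)` -/
def ent (A : Sp) (i j : ℕ) : ℤ := A.foldr (fun a s => bif Nat.beq a.1 i && Nat.beq a.2.1 j then a.2.2 + s else s) 0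

/-- the matrix is zero -/
def zr (A : Sp) : Bool := A.all fun a => decide (ent A a.1 a.2.1 = 0)

theorem wf_append {m : ℕ} {A B : Sp} : wf m (A ++ B) = true ↔ wf m A = true ∧ wf m B = true := by
  unfold wf; rw [List.all_append, Bool.and_eq_true]

theorem wf_iff {m : ℕ} {A : Sp} : wf m A = true ↔ ∀ a ∈ A, a.1 < m + m ∧ a.2.1 < m + m := by
  unfold wf
  simp only [List.all_eq_true, Bool.and_eq_true, Nat.blt_eq]

theorem wf_mulS {m : ℕ} {A B : Sp} (hA : wf m A = true) (hB : wf m B = true) : wf m (mulS A B) = true := by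
  rw [wf_iff] at hA hB ⊢
  intro c hc
  unfold mulS at hc
  obtain ⟨a, ha, hc⟩ := List.mem_flatMap.1 hc
  obtain ⟨b, hb, hc⟩ := List.mem_flatMap.1 hc
  cases h : Nat.beq a.2.1 b.1
  · rw [h, cond_false] at hc
    simp at hc
  · rw [h, cond_true, List.mem_singleton] at hc
    subst hc
    exact ⟨(hA a ha).1, (hB b hb).2⟩

theorem wf_scl {m : ℕ} {c : ℤ} {A : Sp} (hA : wf m A = true) : wf m (scl c A) = true := by
  rw [wf_iff] at hA ⊢
  intro x hx
  obtain ⟨a, ha, rfl⟩ := List.mem_map.1 hx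
  exact hA a ha

section

variable {m : ℕ} [NeZero m] (F : Type u) [Field F]

/-- the value of a sparse matrix -/
def sm (m : ℕ) [NeZero m] (F : Type u) [Field F] (L : Sp) : Matrix (Fin m ⊕ Fin m) (Fin m ⊕ Fin m) F :=
  (L.map fun e => Matrix.single (ix m e.1) (ix m e.2.1) (e.2.2 : F)).sum

@[simp] theorem sm_nil : sm m F [] = 0 := rfl

theorem sm_cons (a : ℕ × ℕ × ℤ) (L : Sp) : sm m F (a :: L) = Matrix.single (ix m a.1) (ix m a.2.1) (a.2.2 : F) + sm m F L := rfl

theorem sm_append (A B : Sp) : sm m F (A ++ B) = sm m F A + sm m F B := by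
  unfold sm; rw [List.map_append, List.sum_append]

theorem sm_scl (c : ℤ) (A : Sp) : sm m F (scl c A) = (c : F) • sm m F A := by
  induction A with
  | nil => simp [scl]
  | cons a A ih =>
    have : scl c (a :: A) = (a.1, a.2.1, c * a.2.2) :: scl c A := rfl
    rw [this, sm_cons, sm_cons, ih, smul_add, Matrix.smul_single, smul_eq_mul, Int.cast_mul]

theorem sm_flatMap {α : Type*} (l : List α) (f : α → Sp) : sm m F (l.flatMap f) = (l.map fun a => sm m F (f a)).sum := by
  induction l with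
  | nil => rfl
  | cons a l ih => rw [List.flatMap_cons, sm_append, ih, List.map_cons, List.sum_cons]

theorem sm_mulS {A B : Sp} (hA : wf m A = true) (hB : wf m B = true) : sm m F (mulS A B) = sm m F A * sm m F B := by
  induction A with
  | nil => simp [mulS]
  | cons a A ih =>
    have hA' := wf_iff.1 hA
    have h1 : wf m A = true := wf_iff.2 fun x hx => hA' x (List.mem_cons_of_mem _ hx)
    have h2 : mulS (a :: A) B = (B.flatMap fun b => bif Nat.beq a.2.1 b.1 then [(a.1, b.2.1, a.2.2 * b.2.2)] else []) ++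
      mulS A B := rfl
    rw [h2, sm_append, ih h1, sm_cons, add_mul]
    congr 1
    clear ih hA h2 h1
    induction B with
    | nil => simp
    | cons b B ih =>
      have hB' := wf_iff.1 hB
      have h1 : wf m B = true := wf_iff.2 fun x hx => hB' x (List.mem_cons_of_mem _ hx)
      rw [List.flatMap_cons, sm_append, ih h1, sm_cons, mul_add]
      congr 1
      cases h : Nat.beq a.2.1 b.1
      · rw [cond_false, sm_nil]
        have h3 : ix m a.2.1 ≠ ix m b.1 := by
          intro h4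
          have h5 := ix_inj (hA' a List.mem_cons_self).2 (hB' b List.mem_cons_self).1 h4
          rw [h5] at h
          simp at h
        exact (Matrix.single_mul_single_of_ne (h := h3) ..).symm
      · rw [cond_true, sm_cons, sm_nil, add_zero]
        have h3 : a.2.1 = b.1 := Nat.eq_of_beq_eq_true h
        rw [← h3, Matrix.single_mul_single_same, Int.cast_mul]

theorem sm_apply_ix {A : Sp} (hA : wf m A = true) {i j : ℕ} (hi : i < m + m) (hj : j < m + m) :
    sm m F A (ix m i) (ix m j) = (ent A i j : F) := by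
  induction A with
  | nil => simp [ent]
  | cons a A ih =>
    have hA' := wf_iff.1 hA
    have h1 : wf m A = true := wf_iff.2 fun x hx => hA' x (List.mem_cons_of_mem _ hx)
    have h2 : ent (a :: A) i j = bif Nat.beq a.1 i && Nat.beq a.2.1 j then a.2.2 + ent A i j else ent A i j := rfl
    rw [sm_cons, Matrix.add_apply, ih h1, h2]
    cases h : Nat.beq a.1 i && Nat.beq a.2.1 j
    · rw [cond_false, Matrix.single_apply, if_neg, zero_add]
      rintro ⟨h3, h4⟩
      have h5 := ix_inj (hA' a List.mem_cons_self).1 hi h3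
      have h6 := ix_inj (hA' a List.mem_cons_self).2 hj h4
      rw [h5, h6] at h
      simp at h
    · rw [cond_true, Matrix.single_apply, if_pos, Int.cast_add]
      rw [Bool.and_eq_true] at h
      rw [Nat.eq_of_beq_eq_true h.1, Nat.eq_of_beq_eq_true h.2]
      exact ⟨rfl, rfl⟩

theorem sm_zr {A : Sp} (hA : wf m A = true) (h : zr A = true) : sm m F A = 0 := by
  have hA' := wf_iff.1 hA
  unfold zr at h
  rw [List.all_eq_true] at h
  ext x y
  rw [Matrix.zero_apply]
  by_cases hxy : ∃ a ∈ A, ix m a.1 = x ∧ ix m a.2.1 = y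
  · obtain ⟨a, ha, rfl, rfl⟩ := hxy
    rw [sm_apply_ix F hA (hA' a ha).1 (hA' a ha).2, of_decide_eq_true (h a ha), Int.cast_zero]
  · push Not at hxy
    have : ∀ B : Sp, (∀ b ∈ B, b ∈ A) → sm m F B x y = 0 := by
      intro B hB
      induction B with
      | nil => rfl
      | cons b B ih =>
        rw [sm_cons, Matrix.add_apply, ih fun c hc => hB c (List.mem_cons_of_mem _ hc), add_zero, Matrix.single_apply, if_neg]
        rintro ⟨h1, h2⟩
        exact hxy b (hB b List.mem_cons_self) h1 h2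
    exact this A fun _ h => h

end

/-! ### tables -/

/-- Tables: `im` : the subsystem (bit mask), `es` : the matrices of the root vectors, `hs` : twice the matrices of
the simple coroots. -/
structure Tb where
  m : ℕ
  im : ℕ
  es : List Sp
  hs : List Sp

namespace Tb

variable (T : Tb) (D : ChevalleyDatum)

def In (r : ℕ) : Bool := T.im.testBit r
def E (r : ℕ) : Sp := T.es.getD r []
def H (i : ℕ) : Sp := T.hs.getD i []

/-- twice the matrix of the coroot `h_r` -/
def corS (r : ℕ) : Sp := (List.range D.rank).flatMap fun i => scl ((D.coroot.getD r #[]).getD i 0) (T.H i)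

/-- the check for the pair `(r, s)`, `A` = matrix of `r`, `B` = matrix of `s` -/
def chk1 (A B : Sp) : List (ℕ × ℤ) → Bool
  | [] => zr (mulS A B ++ scl (-1) (mulS B A)) && zr (mulS (mulS A B) A)
  | [(u, c)] => T.In u && (zr (mulS A B ++ (scl (-1) (mulS B A) ++ scl (-c) (T.E u))) && zr (mulS (mulS A B) A))
  | _ => false

/-- the check for the pair `(r, -r)` -/
def chkn (A B C : Sp) : Bool :=
  zr (scl 2 (mulS A B) ++ (scl (-2) (mulS B A) ++ scl (-1) C)) && zr (mulS (mulS A B) A ++ scl (-1) A)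

/-- the check for the pair `(r, h_i)` -/
def chkh (A B : Sp) (c : ℤ) : Bool :=
  zr (mulS A B ++ (scl (-1) (mulS B A) ++ scl (2 * c) A)) && zr (mulS (mulS A B) A)

/-- all facts on the tables -/
structure Ok : Prop where
  wfE : ∀ r, wf T.m (T.E r) = true
  wfH : ∀ i, wf T.m (T.H i) = true
  lt : ∀ r, T.In r = true → r < D.nroots
  out : ∀ r, T.In r = false → T.E r = []
  row : ∀ r, T.In r = true → ((row D r).map Prod.fst).Nodup
  neg : ∀ r, T.In r = true → T.In (D.neg r) = true ∧ D.neg r ≠ r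
  sq : ∀ r, T.In r = true → zr (mulS (T.E r) (T.E r)) = true
  pr : ∀ r s, T.In r = true → T.In s = true → s ≠ r → s ≠ D.neg r → T.chk1 (T.E r) (T.E s) (D.chainEntry r s) = true
  ng : ∀ r, T.In r = true → chkn (T.E r) (T.E (D.neg r)) (T.corS D r) = true
  hh : ∀ r i, T.In r = true → i < D.rank → chkh (T.E r) (T.H i) (D.cartan i r) = true

/-! ### a fast check -/

/-- the set of the keys of a row of the chain table -/
def mask (R : List (ℕ × Array (ℕ × ℤ))) : ℕ := R.foldr (fun e k => Nat.lor (2 ^ e.1) k) 0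

theorem testBit_mask {R : List (ℕ × Array (ℕ × ℤ))} {s : ℕ} (h : (mask R).testBit s = true) : ∃ e ∈ R, e.1 = s := by
  induction R with
  | nil => simp [mask] at h
  | cons e R ih =>
    have h1 : mask (e :: R) = 2 ^ e.1 ||| mask R := rfl
    rw [h1, Nat.testBit_or, Bool.or_eq_true, Nat.testBit_two_pow, decide_eq_true_eq] at h
    rcases h with h | h
    · exact ⟨e, List.mem_cons_self, h⟩
    · obtain ⟨e', h1, h2⟩ := ih h
      exact ⟨e', List.mem_cons_of_mem _ h1, h2⟩

/-- data of a root: the root, its negative, the mask of its row, masks of the rows and columns of the matrix, the matrix -/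
structure Rw where
  r : ℕ
  n : ℕ
  K : ℕ
  rm : ℕ
  cm : ℕ
  A : Sp

def Rw.ok (p : Rw) : Bool :=
  T.In p.r && Nat.beq (D.neg p.r) p.n && !(Nat.beq p.n p.r) && T.In p.n && decide (T.E p.r = p.A) &&
  (p.A.all fun a => p.rm.testBit a.1 && p.cm.testBit a.2.1) && zr (mulS p.A p.A) && chkn p.A (T.E p.n) (T.corS D p.r) &&
  ((List.range D.rank).all fun i => chkh p.A (T.H i) (D.cartan i p.r)) &&
  ((XColumns.row D p.r).all fun e => !T.In e.1 || T.chk1 p.A (T.E e.1) e.2.toList) && Nat.beq p.K (mask (XColumns.row D p.r))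

def pairOk (p q : Rw) : Bool :=
  p.K.testBit q.r || Nat.beq p.r q.r || Nat.beq q.r p.n ||
  (Nat.beq (Nat.land p.cm q.rm) 0 && Nat.beq (Nat.land q.cm p.rm) 0) ||
  (zr (mulS p.A q.A ++ scl (-1) (mulS q.A p.A)) && zr (mulS (mulS p.A q.A) p.A))

/-- the remaining checks -/
def okRest (n : ℕ) (rws : List Rw) : Bool :=
  ((List.range n).all fun s => !T.In s || rws.any fun p => Nat.beq s p.r) && Nat.blt T.im (2 ^ n) &&
  (T.es.all fun A => wf T.m A) && (T.hs.all fun A => wf T.m A) &&
  ((List.range T.es.length).all fun r => T.In r || (T.E r).isEmpty)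

theorem mulS_nil_of {p q : Rw} (hp : ∀ a ∈ p.A, p.cm.testBit a.2.1 = true) (hq : ∀ a ∈ q.A, q.rm.testBit a.1 = true)
    (h : Nat.land p.cm q.rm = 0) : mulS p.A q.A = [] := by
  unfold mulS
  rw [List.flatMap_eq_nil_iff]
  intro a ha
  rw [List.flatMap_eq_nil_iff]
  intro b hb
  cases hab : Nat.beq a.2.1 b.1
  · rfl
  · exfalso
    have h1 : a.2.1 = b.1 := Nat.eq_of_beq_eq_true hab
    have h2 : (p.cm &&& q.rm).testBit b.1 = true := by
      rw [Nat.testBit_and, ← h1, hp a ha, h1, hq b hb]; rfl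
    have h3 : p.cm &&& q.rm = 0 := h
    rw [h3, Nat.zero_testBit] at h2
    exact Bool.false_ne_true h2

theorem chainEntry_cases (D : ChevalleyDatum) (r s : ℕ) : (∃ e ∈ XColumns.row D r, e.1 = s ∧ D.chainEntry r s = e.2.toList) ∨
    ((∀ e ∈ XColumns.row D r, e.1 ≠ s) ∧ D.chainEntry r s = []) := by
  unfold ChevalleyDatum.chainEntry
  cases h : (D.chain.getD r #[]).toList.find? (fun e => decide (e.1 = s)) with
  | none =>
    right
    rw [List.find?_eq_none] at h
    exact ⟨fun e he h1 => h e he (decide_eq_true h1), rfl⟩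
  | some e =>
    left
    have h1 := List.find?_some h
    have h2 := List.mem_of_find?_eq_some h
    exact ⟨e, h2, of_decide_eq_true h1, rfl⟩

theorem ok_of {rws : List Rw} (h1 : rws.all (fun p => Rw.ok T D p) = true) (h2 : rws.all (fun p => rws.all fun q => pairOk p q) = true)
    (h3 : okRest T D.nroots rws = true) (hrow : ∀ r < D.nroots, ((XColumns.row D r).map Prod.fst).Nodup) : T.Ok D := by
  rw [List.all_eq_true] at h1 h2
  unfold okRest at h3
  simp only [Bool.and_eq_true, List.all_eq_true, List.mem_range, Bool.or_eq_true, Bool.not_eq_true', List.any_eq_true,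
    Nat.blt_eq] at h3
  obtain ⟨⟨⟨⟨ha, hb⟩, hc⟩, hd⟩, he⟩ := h3
  have hlt : ∀ r, T.In r = true → r < D.nroots := by
    intro r hr
    by_contra hge
    have h4 : T.im < 2 ^ r := lt_of_lt_of_le hb (Nat.pow_le_pow_right (by norm_num) (not_lt.1 hge))
    unfold In at hr
    rw [Nat.testBit_eq_false_of_lt h4] at hr
    exact Bool.false_ne_true hr
  have hex : ∀ r, T.In r = true → ∃ p ∈ rws, p.r = r := by
    intro r hr
    rcases ha r (hlt r hr) with h | ⟨p, hp, h⟩
    · rw [h] at hr; exact absurd hr Bool.false_ne_true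
    · exact ⟨p, hp, (Nat.eq_of_beq_eq_true h).symm⟩
  have hok : ∀ p ∈ rws, Rw.ok T D p = true := h1
  simp only [Rw.ok, Bool.and_eq_true, List.all_eq_true, List.mem_range, Bool.or_eq_true, Bool.not_eq_true',
    decide_eq_true_eq] at hok
  have hwf : ∀ (L : List Sp), (∀ A ∈ L, wf T.m A = true) → ∀ i, wf T.m (L.getD i []) = true := by
    intro L hL i
    rw [List.getD_eq_getElem?_getD]
    cases h : L[i]? with
    | none => rfl
    | some A => exact hL A (List.mem_of_getElem? h)
  refine ⟨hwf _ hc, hwf _ hd, hlt, fun r hr => ?_, fun r hr => hrow r (hlt r hr), fun r hr => ?_, fun r hr => ?_,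
    fun r s hr hs hsr hsn => ?_, fun r hr => ?_, fun r i hr hi => ?_⟩
  · by_cases hl : r < T.es.length
    · rcases he r hl with h | h
      · rw [hr] at h; exact absurd h Bool.false_ne_true
      · exact List.isEmpty_iff.1 h
    · unfold E
      rw [List.getD_eq_getElem?_getD, List.getElem?_eq_none (not_lt.1 hl)]
      rfl
  · obtain ⟨p, hp, rfl⟩ := hex r hr
    obtain ⟨⟨⟨⟨⟨⟨⟨⟨⟨⟨-, q1⟩, q2⟩, q3⟩, -⟩, -⟩, -⟩, -⟩, -⟩, -⟩, -⟩ := hok p hp
    have q4 := Nat.eq_of_beq_eq_true q1
    rw [q4]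
    refine ⟨q3, fun h => ?_⟩
    rw [h] at q2
    simp at q2
  · obtain ⟨p, hp, rfl⟩ := hex r hr
    obtain ⟨⟨⟨⟨⟨⟨⟨⟨⟨⟨-, -⟩, -⟩, -⟩, q1⟩, -⟩, q2⟩, -⟩, -⟩, -⟩, -⟩ := hok p hp
    rw [q1]; exact q2
  · obtain ⟨p, hp, rfl⟩ := hex r hr
    obtain ⟨q, hq, rfl⟩ := hex s hs
    obtain ⟨⟨⟨⟨⟨⟨⟨⟨⟨⟨-, p1⟩, -⟩, -⟩, p2⟩, p3⟩, -⟩, -⟩, -⟩, p4⟩, p5⟩ := hok p hp
    obtain ⟨⟨⟨⟨⟨⟨⟨⟨⟨⟨-, -⟩, -⟩, -⟩, q2⟩, q3⟩, -⟩, -⟩, -⟩, -⟩, -⟩ := hok q hq
    have hpq := h2 p hp
    rw [List.all_eq_true] at hpq
    have hpq := hpq q hq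
    have hnil : (∀ e ∈ XColumns.row D p.r, e.1 ≠ q.r) → T.chk1 (T.E p.r) (T.E q.r) [] = true := by
      intro hne
      unfold pairOk at hpq
      simp only [Bool.or_eq_true, Bool.and_eq_true] at hpq
      rcases hpq with (((h | h) | h) | ⟨h, h'⟩) | h
      · exfalso
        rw [Nat.eq_of_beq_eq_true p5] at h
        obtain ⟨e, he, h6⟩ := testBit_mask h
        exact hne e he h6
      · exact absurd (Nat.eq_of_beq_eq_true h).symm hsr
      · exact absurd ((Nat.eq_of_beq_eq_true h).trans (Nat.eq_of_beq_eq_true p1).symm) hsn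
      · have e1 : mulS p.A q.A = [] := mulS_nil_of (fun a ha => (p3 a ha).2) (fun a ha => (q3 a ha).1) (Nat.eq_of_beq_eq_true h)
        have e2 : mulS q.A p.A = [] := mulS_nil_of (fun a ha => (q3 a ha).2) (fun a ha => (p3 a ha).1) (Nat.eq_of_beq_eq_true h')
        rw [p2, q2]
        unfold chk1
        rw [e1, e2]; rfl
      · rw [p2, q2]
        unfold chk1
        rw [h.1, h.2]; rfl
    rcases chainEntry_cases D p.r q.r with ⟨e, he, h6, h7⟩ | ⟨h6, h7⟩
    · rw [h7]
      rcases p4 e he with h8 | h8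
      · rw [h6, hs] at h8; exact absurd h8.symm Bool.false_ne_true
      · rw [p2, ← h6]; exact h8
    · rw [h7]; exact hnil h6
  · obtain ⟨p, hp, rfl⟩ := hex r hr
    obtain ⟨⟨⟨⟨⟨⟨⟨⟨⟨⟨-, p1⟩, -⟩, -⟩, q1⟩, -⟩, -⟩, q2⟩, -⟩, -⟩, -⟩ := hok p hp
    rw [q1, Nat.eq_of_beq_eq_true p1]; exact q2
  · obtain ⟨p, hp, rfl⟩ := hex r hr
    obtain ⟨⟨⟨⟨⟨⟨⟨⟨⟨⟨-, -⟩, -⟩, -⟩, q1⟩, -⟩, -⟩, -⟩, q2⟩, -⟩, -⟩ := hok p hp
    rw [q1]; exact q2 i hi

end Tb

/-! ### the map -/

section

/-- the matrices -/
abbrev Mt (T : Tb) (F : Type u) : Type u := Matrix (Fin T.m ⊕ Fin T.m) (Fin T.m ⊕ Fin T.m) F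

variable (T : Tb) [NeZero T.m] (D : ChevalleyDatum) (F : Type u) [Field F]

/-- the matrices of the basis vectors -/
def Bm : D.Idx → Mt T F
  | Sum.inl i => sm T.m F (T.H i)
  | Sum.inr s => (2 : F) • sm T.m F (T.E s)

/-- twice the natural representation (on the Lie algebra of the subsystem) -/
noncomputable def Th : (D.Idx → F) →ₗ[F] Mt T F := Fintype.linearCombination F (Bm T D F)

theorem Th_apply (v : D.Idx → F) : Th T D F v = ∑ j, v j • Bm T D F j := Fintype.linearCombination_apply F (Bm T D F) v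

theorem Th_single (j : D.Idx) : Th T D F (Pi.single j 1) = Bm T D F j := by
  rw [Th, Fintype.linearCombination_apply_single, one_smul]

theorem Th_ev {s : ℕ} (hs : s < D.nroots) : Th T D F (ev D F s) = (2 : F) • sm T.m F (T.E s) := by
  rw [ev_eq_single hs, Th_single]; rfl

theorem Th_hv {i : ℕ} (hi : i < D.rank) : Th T D F (hv D F i) = sm T.m F (T.H i) := by
  rw [hv_eq_single hi, Th_single]; rfl

theorem sum_list_range {A : Type*} [AddCommMonoid A] (f : ℕ → A) (n : ℕ) :
    ((List.range n).map f).sum = ∑ i : Fin n, f i := by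
  induction n with
  | zero => simp
  | succ n ih => rw [List.range_succ, List.map_append, List.sum_append, ih, Fin.sum_univ_castSucc]; simp

theorem Th_corv (r : ℕ) : Th T D F (corv D F r) = sm T.m F (T.corS D r) := by
  rw [Th_apply, Fintype.sum_sum_type]
  have h1 : ∑ x : Fin D.nroots, corv D F r (Sum.inr x) • Bm T D F (Sum.inr x) = 0 :=
    Finset.sum_eq_zero fun x _ => by rw [corv_inr, zero_smul]
  rw [h1, add_zero, Tb.corS, sm_flatMap, sum_list_range]
  refine Finset.sum_congr rfl fun i _ => ?_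
  rw [corv_inl, sm_scl]; rfl

variable {T D F}

/-- the Lie algebra of the subsystem -/
def Lp (T : Tb) (D : ChevalleyDatum) (F : Type u) [Field F] : Submodule F (D.Idx → F) where
  carrier := {v | ∀ s : Fin D.nroots, T.In s = false → v (Sum.inr s) = 0}
  add_mem' {v w} hv hw s hs := by rw [Pi.add_apply, hv s hs, hw s hs, add_zero]
  zero_mem' s _ := rfl
  smul_mem' c v hv s hs := by rw [Pi.smul_apply, hv s hs, smul_zero]

theorem mem_Lp {v : D.Idx → F} : v ∈ Lp T D F ↔ ∀ s : Fin D.nroots, T.In s = false → v (Sum.inr s) = 0 := Iff.rfl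

theorem dec_vec (v : D.Idx → F) : v = ∑ i : Fin D.rank, v (Sum.inl i) • hv D F i + ∑ s : Fin D.nroots, v (Sum.inr s) • ev D F s := by
  funext j
  rw [Pi.add_apply, Finset.sum_apply, Finset.sum_apply]
  rcases j with j | j
  · rw [Finset.sum_eq_single j, Finset.sum_eq_zero, add_zero]
    · simp
    · intro s _; simp
    · intro i _ hi
      simp [Fin.val_ne_of_ne (Ne.symm hi)]
    · intro h; exact absurd (Finset.mem_univ j) h
  · rw [Finset.sum_eq_zero, Finset.sum_eq_single j, zero_add]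
    · simp
    · intro i _ hi
      simp [Fin.val_ne_of_ne (Ne.symm hi)]
    · intro h; exact absurd (Finset.mem_univ j) h
    · intro s _; simp

/-- `Lp` is spanned by the basis vectors -/
theorem Lp_ind {P : (D.Idx → F) → Prop} (h0 : P 0) (ha : ∀ v w, P v → P w → P (v + w)) (hs : ∀ (c : F) v, P v → P (c • v))
    (hh : ∀ i < D.rank, P (hv D F i)) (he : ∀ s < D.nroots, T.In s = true → P (ev D F s)) {v : D.Idx → F} (hv : v ∈ Lp T D F) :
    P v := by
  rw [dec_vec v]
  have hsum : ∀ {n : ℕ} (f : Fin n → (D.Idx → F)), (∀ i, P (f i)) → P (∑ i, f i) := by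
    intro n f hf
    exact Finset.sum_induction f P ha h0 fun i _ => hf i
  refine ha _ _ (hsum _ fun i => hs _ _ (hh i i.2)) (hsum _ fun s => ?_)
  by_cases hi : T.In s = true
  · exact hs _ _ (he s s.2 hi)
  · rw [hv s (by simpa using hi), zero_smul]
    exact h0

theorem hv_mem {i : ℕ} : hv D F i ∈ Lp T D F := fun s _ => hv_inr i s

theorem ev_mem {u : ℕ} (hu : T.In u = true) : ev D F u ∈ Lp T D F := by
  intro s hs
  rw [ev_inr, if_neg]
  intro h
  rw [← h, hs] at hu
  exact Bool.false_ne_true hu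

theorem corv_mem {r : ℕ} : corv D F r ∈ Lp T D F := fun s _ => corv_inr r s

theorem conj_eq {n : Type*} [Fintype n] [DecidableEq n] {A S P Q : Matrix n n F} (t : F) (h1 : A * S - S * A = P)
    (h2 : A * S * A = Q) : (1 + t • A) * S * (1 - t • A) = S + t • P - t ^ 2 • Q := by
  rw [← h1, ← h2]
  simp only [add_mul, mul_sub, mul_one, one_mul, smul_mul_assoc, mul_smul_comm, smul_sub, smul_add, smul_smul, mul_assoc,
    pow_two]
  abel

/-- the root elements of the subsystem -/
theorem Tb.Ok.root (O : T.Ok D) {r : ℕ} (hr : T.In r = true) (t : F) {v : D.Idx → F} (hv : v ∈ Lp T D F) :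
    D.x F r t *ᵥ v ∈ Lp T D F ∧
      Th T D F (D.x F r t *ᵥ v) = (1 + t • sm T.m F (T.E r)) * Th T D F v * (1 - t • sm T.m F (T.E r)) := by
  have hrl := O.lt r hr
  obtain ⟨hnr, hnr'⟩ := O.neg r hr
  set A := sm T.m F (T.E r) with hA
  refine Lp_ind (P := fun v => D.x F r t *ᵥ v ∈ Lp T D F ∧
    Th T D F (D.x F r t *ᵥ v) = (1 + t • A) * Th T D F v * (1 - t • A)) ?_ ?_ ?_ ?_ ?_ hv
  · rw [Matrix.mulVec_zero, map_zero, mul_zero, zero_mul]
    exact ⟨Submodule.zero_mem _, rfl⟩
  · rintro v w ⟨h1, h2⟩ ⟨h3, h4⟩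
    rw [Matrix.mulVec_add, map_add, map_add, h2, h4, mul_add _ (Th T D F v), add_mul _ _ (1 - t • A)]
    exact ⟨Submodule.add_mem _ h1 h3, rfl⟩
  · rintro c v ⟨h1, h2⟩
    rw [Matrix.mulVec_smul, map_smul, map_smul, h2, mul_smul_comm, smul_mul_assoc]
    exact ⟨Submodule.smul_mem _ _ h1, rfl⟩
  · intro i hi
    have h1 := O.hh r i hr hi
    unfold Tb.chkh at h1
    rw [Bool.and_eq_true] at h1
    have h2 := sm_zr F (wf_append.2 ⟨wf_mulS (O.wfE r) (O.wfH i), wf_append.2 ⟨wf_scl (wf_mulS (O.wfH i) (O.wfE r)),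
      wf_scl (O.wfE r)⟩⟩) h1.1
    have h3 := sm_zr F (wf_mulS (wf_mulS (O.wfE r) (O.wfH i)) (O.wfE r)) h1.2
    rw [sm_append, sm_append, sm_scl, sm_scl, sm_mulS F (O.wfE r) (O.wfH i), sm_mulS F (O.wfH i) (O.wfE r)] at h2
    rw [sm_mulS F (wf_mulS (O.wfE r) (O.wfH i)) (O.wfE r), sm_mulS F (O.wfE r) (O.wfH i)] at h3
    rw [x_mulVec_hv hrl hi, map_sub, map_smul, Th_hv T D F hi, Th_ev T D F hrl]
    refine ⟨Submodule.sub_mem _ hv_mem (Submodule.smul_mem _ _ (ev_mem hr)), ?_⟩
    rw [conj_eq t (P := -((2 * (D.cartan i r : F)) • A)) ?_ h3, smul_zero, sub_zero]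
    · rw [← hA, smul_neg, smul_smul, smul_smul, sub_eq_add_neg]
      congr 3
      ring
    · rw [← hA, Int.cast_neg, Int.cast_one, neg_one_smul, Int.cast_mul, Int.cast_ofNat] at h2
      rw [eq_neg_iff_add_eq_zero, ← h2]
      abel
  · intro s hsl hsi
    by_cases hsr : s = r
    · subst hsr
      rw [x_mulVec_ev_self hrl]
      refine ⟨ev_mem hr, ?_⟩
      have h2 := sm_zr F (wf_mulS (O.wfE s) (O.wfE s)) (O.sq s hr)
      rw [sm_mulS F (O.wfE s) (O.wfE s), ← hA] at h2
      rw [Th_ev T D F hrl, ← hA]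
      rw [conj_eq t (P := 0) (Q := 0), smul_zero, smul_zero, add_zero, sub_zero]
      · rw [mul_smul_comm, smul_mul_assoc, h2, smul_zero, sub_self]
      · rw [mul_smul_comm, h2, smul_zero, zero_mul]
    · have hwfc : wf T.m (T.corS D r) = true := by
        rw [wf_iff]
        intro x hx
        obtain ⟨i, -, hx⟩ := List.mem_flatMap.1 hx
        exact wf_iff.1 (wf_scl (O.wfH i)) x hx
      by_cases hsn : s = D.neg r
      · subst hsn
        have h1' := O.ng r hr
        unfold Tb.chkn at h1'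
        rw [Bool.and_eq_true] at h1'
        have h2 := sm_zr F (wf_append.2 ⟨wf_scl (wf_mulS (O.wfE r) (O.wfE _)), wf_append.2 ⟨wf_scl (wf_mulS (O.wfE _) (O.wfE r)),
          wf_scl hwfc⟩⟩) h1'.1
        have h3 := sm_zr F (wf_append.2 ⟨wf_mulS (wf_mulS (O.wfE r) (O.wfE _)) (O.wfE r), wf_scl (O.wfE r)⟩) h1'.2
        rw [sm_append, sm_append, sm_scl, sm_scl, sm_scl, sm_mulS F (O.wfE r) (O.wfE _), sm_mulS F (O.wfE _) (O.wfE r)] at h2
        rw [sm_append, sm_scl, sm_mulS F (wf_mulS (O.wfE r) (O.wfE _)) (O.wfE r), sm_mulS F (O.wfE r) (O.wfE _)] at h3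
        rw [x_mulVec_ev_neg hrl hsl hnr', map_sub, map_add, map_smul, map_smul, Th_ev T D F hsl, Th_ev T D F hrl, Th_corv]
        refine ⟨Submodule.sub_mem _ (Submodule.add_mem _ (ev_mem hsi) (Submodule.smul_mem _ _ corv_mem))
          (Submodule.smul_mem _ _ (ev_mem hr)), ?_⟩
        rw [← hA, Int.cast_neg, Int.cast_neg, Int.cast_one, neg_one_smul, Int.cast_ofNat] at h2
        rw [← hA, Int.cast_neg, Int.cast_one, neg_one_smul] at h3
        rw [← hA, conj_eq t (P := sm T.m F (T.corS D r)) (Q := (2 : F) • A)]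
        · rw [mul_smul_comm, smul_mul_assoc]
          have h4 := h2
          rw [neg_smul] at h4
          rw [← sub_eq_zero, ← h4]
          abel
        · rw [mul_smul_comm, smul_mul_assoc, add_neg_eq_zero.1 h3]
      · have h1' := O.pr r s hr hsi hsr hsn
        rw [x_mulVec_ev hrl hsl hsr hsn (O.row r hr)]
        rcases hce : D.chainEntry r s with _ | ⟨⟨u, c⟩, _ | ⟨q, L⟩⟩
        · rw [hce] at h1'
          unfold Tb.chk1 at h1'
          rw [Bool.and_eq_true] at h1'
          have h2 := sm_zr F (wf_append.2 ⟨wf_mulS (O.wfE r) (O.wfE s), wf_scl (wf_mulS (O.wfE s) (O.wfE r))⟩) h1'.1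
          have h3 := sm_zr F (wf_mulS (wf_mulS (O.wfE r) (O.wfE s)) (O.wfE r)) h1'.2
          rw [sm_append, sm_scl, sm_mulS F (O.wfE r) (O.wfE s), sm_mulS F (O.wfE s) (O.wfE r), ← hA, Int.cast_neg,
            Int.cast_one, neg_one_smul] at h2
          rw [sm_mulS F (wf_mulS (O.wfE r) (O.wfE s)) (O.wfE r), sm_mulS F (O.wfE r) (O.wfE s), ← hA] at h3
          simp only [List.zipIdx_nil, List.map_nil, List.sum_nil, add_zero]
          refine ⟨ev_mem hsi, ?_⟩
          rw [Th_ev T D F hsl, conj_eq t (P := 0) (Q := 0), smul_zero, smul_zero, add_zero, sub_zero]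
          · rw [mul_smul_comm, smul_mul_assoc, ← smul_sub, sub_eq_add_neg, h2, smul_zero]
          · rw [mul_smul_comm, smul_mul_assoc, h3, smul_zero]
        · rw [hce] at h1'
          unfold Tb.chk1 at h1'
          rw [Bool.and_eq_true, Bool.and_eq_true] at h1'
          have hu := O.lt u h1'.1
          have h2 := sm_zr F (wf_append.2 ⟨wf_mulS (O.wfE r) (O.wfE s), wf_append.2 ⟨wf_scl (wf_mulS (O.wfE s) (O.wfE r)),
            wf_scl (O.wfE u)⟩⟩) h1'.2.1
          have h3 := sm_zr F (wf_mulS (wf_mulS (O.wfE r) (O.wfE s)) (O.wfE r)) h1'.2.2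
          rw [sm_append, sm_append, sm_scl, sm_scl, sm_mulS F (O.wfE r) (O.wfE s), sm_mulS F (O.wfE s) (O.wfE r), ← hA,
            Int.cast_neg, Int.cast_one, neg_one_smul, Int.cast_neg] at h2
          rw [sm_mulS F (wf_mulS (O.wfE r) (O.wfE s)) (O.wfE r), sm_mulS F (O.wfE r) (O.wfE s), ← hA] at h3
          simp only [List.zipIdx_cons, List.zipIdx_nil, List.map_cons, List.map_nil, List.sum_cons, List.sum_nil, add_zero,
            zero_add, pow_one]
          refine ⟨Submodule.add_mem _ (ev_mem hsi) (Submodule.smul_mem _ _ (ev_mem h1'.1)), ?_⟩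
          rw [map_add, map_smul, Th_ev T D F hsl, Th_ev T D F hu, conj_eq t (P := (c : F) • (2 : F) • sm T.m F (T.E u)) (Q := 0),
            smul_zero, sub_zero]
          · rw [smul_smul, smul_smul, smul_smul]
            congr 2
            ring
          · rw [mul_smul_comm, smul_mul_assoc, ← smul_sub, smul_comm, ← sub_eq_zero, ← smul_sub]
            rw [neg_smul, ← add_assoc] at h2
            rw [sub_eq_add_neg, sub_eq_add_neg, h2, smul_zero]
          · rw [mul_smul_comm, smul_mul_assoc, h3, smul_zero]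
        · rw [hce] at h1'
          simp [Tb.chk1] at h1'

end

/-! ### fast kernel versions of the checks -/
namespace Fk

noncomputable def frc (x : ℕ) (f : ℕ → Bool) : Bool := Nat.rec (f 0) (fun k _ => f (Nat.succ k)) x

theorem frc_eq (x : ℕ) (f : ℕ → Bool) : frc x f = f x := by cases x <;> rfl

noncomputable def nth {α : Type} (d : α) (l : List α) : ℕ → α :=
  List.rec (fun _ => d) (fun a _ ih n => Nat.rec a (fun k _ => ih k) n) l

theorem nth_eq {α : Type} (d : α) (l : List α) (n : ℕ) : nth d l n = l.getD n d := by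
  induction l generalizing n with
  | nil => rfl
  | cons a l ih => cases n with
    | zero => rfl
    | succ k => exact ih k

theorem nth_arr {α : Type} (d : α) (a : Array α) (n : ℕ) : nth d a.toList n = a.getD n d := by
  rw [nth_eq, List.getD_eq_getElem?_getD, Array.getD_eq_getD_getElem?, Array.getElem?_toList]

noncomputable def al {α : Type} (l : List α) (p : α → Bool) : Bool :=
  List.rec true (fun a _ ih => Bool.rec false ih (p a)) l

theorem al_eq {α : Type} (l : List α) (p : α → Bool) : al l p = l.all p := by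
  induction l with
  | nil => rfl
  | cons a l ih => rw [List.all_cons, ← ih]; show (Bool.rec false (al l p) (p a) : Bool) = _; cases p a <;> rfl

theorem al_fun : @List.all.{0} = @al := by
  funext α l p
  exact (al_eq l p).symm

noncomputable def en (A : Sp) (i j : ℕ) : ℤ :=
  List.rec 0 (fun a _ ih => Prod.rec (fun x r => Bool.rec ih
    (Prod.rec (fun y c => Bool.rec ih (Int.add c ih) (Nat.beq y j)) r) (Nat.beq x i)) a) A

theorem en_fun : ent = en := by
  funext A i j
  induction A with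
  | nil => rfl
  | cons a A ih =>
    obtain ⟨x, y, c⟩ := a
    show (bif Nat.beq x i && Nat.beq y j then c + ent A i j else ent A i j) =
      (Bool.rec (en A i j) (Bool.rec (en A i j) (c + en A i j) (Nat.beq y j)) (Nat.beq x i) : ℤ)
    rw [ih]
    cases Nat.beq x i <;> cases Nat.beq y j <;> rfl

/-- `scl c A ++ R` -/
noncomputable def sc (c : ℤ) (A R : Sp) : Sp :=
  List.rec R (fun a _ ih => Prod.rec (fun i r => Prod.rec (fun j d => (i, j, Int.mul c d) :: ih) r) a) A

theorem sc_eq (c : ℤ) (A R : Sp) : sc c A R = scl c A ++ R := by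
  induction A with
  | nil => rfl
  | cons a A ih => exact congrArg (List.cons _) ih

/-- `mulS A B ++ R` -/
noncomputable def ml (A B R : Sp) : Sp :=
  List.rec R (fun a _ ih => Prod.rec (fun i r => Prod.rec (fun j c => List.rec ih (fun b _ ih2 => Prod.rec
    (fun k s => Bool.rec ih2 (Prod.rec (fun l d => (i, l, Int.mul c d) :: ih2) s) (Nat.beq j k)) b) B) r) a) A

theorem ml_eq (A B R : Sp) : ml A B R = mulS A B ++ R := by
  induction A with
  | nil => rfl
  | cons a A ih =>
    obtain ⟨i, j, c⟩ := a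
    have h2 : mulS ((i, j, c) :: A) B = (B.flatMap fun b => bif Nat.beq j b.1 then [(i, b.2.1, c * b.2.2)] else []) ++
      mulS A B := rfl
    rw [h2, List.append_assoc, ← ih]
    show (List.rec (ml A B R) _ B : Sp) = _
    generalize ml A B R = X
    clear h2 ih
    induction B with
    | nil => rfl
    | cons b B ih =>
      obtain ⟨k, l, d⟩ := b
      rw [List.flatMap_cons, List.append_assoc, ← ih]
      show (Bool.rec _ _ (Nat.beq j k) : Sp) = (bif Nat.beq j k then _ else _) ++ _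
      cases Nat.beq j k <;> rfl

/-- positive part, negative part and total weight, packed -/
noncomputable def go (A : Sp) : ℕ → ℕ → ℕ → Bool :=
  List.rec (fun P N T => Bool.rec false (Nat.ble T 4095) (Nat.beq P N)) (fun a _ ih P N T => Prod.rec (fun i r => Prod.rec
    (fun j c => Bool.rec false (Int.rec
      (fun n => ih (Nat.add P (Nat.shiftLeft n (Nat.add (Nat.mul 384 i) (Nat.mul 12 j)))) N (Nat.add T n))
      (fun n => ih P (Nat.add N (Nat.shiftLeft (Nat.succ n) (Nat.add (Nat.mul 384 i) (Nat.mul 12 j)))) (Nat.add T (Nat.succ n))) c)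
      (Nat.ble j 31)) r) a) A

def vV (A : Sp) : ℤ := (A.map fun a => a.2.2 * 4096 ^ (32 * a.1 + a.2.1)).sum
def vS (A : Sp) : ℕ := (A.map fun a => a.2.2.natAbs).sum
def vE (A : Sp) (k : ℕ) : ℤ := (A.map fun a => if 32 * a.1 + a.2.1 = k then a.2.2 else 0).sum

theorem sh_eq (n i j : ℕ) : ((Nat.shiftLeft n (Nat.add (Nat.mul 384 i) (Nat.mul 12 j)) : ℕ) : ℤ) = n * 4096 ^ (32 * i + j) := by
  show ((n <<< (384 * i + 12 * j) : ℕ) : ℤ) = _
  rw [Nat.shiftLeft_eq, show 384 * i + 12 * j = 12 * (32 * i + j) by omega, pow_mul]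
  norm_cast

theorem go_spec (A : Sp) : ∀ P N T, go A P N T = true → (∀ a ∈ A, a.2.1 < 32) ∧ (P : ℤ) - N + vV A = 0 ∧ T + vS A < 4096 := by
  induction A with
  | nil =>
    intro P N T h
    change (Bool.rec false (Nat.ble T 4095) (Nat.beq P N) : Bool) = true at h
    cases e : Nat.beq P N
    · rw [e] at h; cases h
    · rw [e] at h
      rw [Nat.eq_of_beq_eq_true e]
      exact ⟨fun _ ha => (nomatch ha), by rw [sub_self]; rfl, Nat.lt_succ_of_le (Nat.le_of_ble_eq_true h)⟩
  | cons a A ih =>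
    obtain ⟨i, j, c⟩ := a
    intro P N T h
    change (Bool.rec false _ (Nat.ble j 31) : Bool) = true at h
    cases e : Nat.ble j 31
    · rw [e] at h; cases h
    rw [e] at h
    have hj : j < 32 := Nat.lt_succ_of_le (Nat.le_of_ble_eq_true e)
    have e1 : vV ((i, j, c) :: A) = c * 4096 ^ (32 * i + j) + vV A := rfl
    have e2 : vS ((i, j, c) :: A) = c.natAbs + vS A := rfl
    rw [e1, e2]
    cases c with
    | ofNat n =>
      obtain ⟨h1, h2, h3⟩ := ih _ _ _ h
      rw [Nat.add_eq, Nat.cast_add, sh_eq] at h2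
      refine ⟨List.forall_mem_cons.2 ⟨hj, h1⟩, ?_, by rw [← Nat.add_assoc]; exact h3⟩
      rw [← h2, Int.ofNat_eq_natCast]; ring
    | negSucc n =>
      obtain ⟨h1, h2, h3⟩ := ih _ _ _ h
      rw [Nat.add_eq, Nat.cast_add, sh_eq] at h2
      refine ⟨List.forall_mem_cons.2 ⟨hj, h1⟩, ?_, by rw [← Nat.add_assoc]; exact h3⟩
      rw [← h2, Int.negSucc_eq, Nat.succ_eq_add_one, Nat.cast_add, Nat.cast_one]; ring

theorem vE_abs (A : Sp) (k : ℕ) : (vE A k).natAbs ≤ vS A := by
  induction A with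
  | nil => exact le_rfl
  | cons a A ih =>
    show ((if 32 * a.1 + a.2.1 = k then a.2.2 else 0) + vE A k).natAbs ≤ a.2.2.natAbs + vS A
    split <;> omega

theorem vE_dvd (A : Sp) (k : ℕ) : (4096 : ℤ) ^ k ∣ vV A - ∑ j ∈ Finset.range k, vE A j * 4096 ^ j := by
  induction A with
  | nil => exact ⟨0, by simp only [vV, vE, List.map_nil, List.sum_nil, zero_mul, Finset.sum_const_zero, sub_self, mul_zero]⟩
  | cons a A ih =>
    have e1 : vV (a :: A) = a.2.2 * 4096 ^ (32 * a.1 + a.2.1) + vV A := rfl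
    have e2 : ∀ j, vE (a :: A) j = (if 32 * a.1 + a.2.1 = j then a.2.2 else 0) + vE A j := fun _ => rfl
    simp only [e1, e2, add_mul, Finset.sum_add_distrib, ite_mul, zero_mul, Finset.sum_ite_eq, Finset.mem_range]
    rw [add_sub_add_comm]
    refine dvd_add ?_ ih
    split
    · rw [sub_self]; exact dvd_zero _
    · rw [sub_zero]; exact Dvd.dvd.mul_left (pow_dvd_pow _ (by omega)) _

theorem vE_zero {A : Sp} (h1 : vV A = 0) (h2 : vS A < 4096) (k : ℕ) : vE A k = 0 := by
  induction k using Nat.strong_induction_on with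
  | _ k ih =>
    have h := vE_dvd A (k + 1)
    rw [h1, zero_sub, dvd_neg, Finset.sum_range_succ,
      Finset.sum_eq_zero fun j hj => by rw [ih j (Finset.mem_range.1 hj), zero_mul], zero_add, pow_succ', 
      mul_dvd_mul_iff_right (pow_ne_zero _ (by decide))] at h
    have h3 := vE_abs A k
    omega

theorem ent_eq {A : Sp} (h : ∀ a ∈ A, a.2.1 < 32) {i j : ℕ} (hj : j < 32) : ent A i j = vE A (32 * i + j) := by
  induction A with
  | nil => rfl
  | cons a A ih =>
    have h1 := h a List.mem_cons_self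
    show (bif Nat.beq a.1 i && Nat.beq a.2.1 j then a.2.2 + ent A i j else ent A i j) =
      (if 32 * a.1 + a.2.1 = 32 * i + j then a.2.2 else 0) + vE A (32 * i + j)
    rw [ih fun b hb => h b (List.mem_cons_of_mem _ hb)]
    cases e : Nat.beq a.1 i && Nat.beq a.2.1 j
    · rw [cond_false, if_neg, zero_add]
      intro h2
      rw [show a.1 = i by omega, show a.2.1 = j by omega, Nat.beq_refl, Nat.beq_refl] at e
      cases e
    · rw [Bool.and_eq_true] at e
      rw [cond_true, Nat.eq_of_beq_eq_true e.1, Nat.eq_of_beq_eq_true e.2, if_pos rfl]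

/-- the fast zero test -/
noncomputable def z (A : Sp) : Bool := go A 0 0 0

theorem zr_of {A : Sp} (h : z A = true) : zr A = true := by
  obtain ⟨h1, h2, h3⟩ := go_spec A 0 0 0 h
  rw [sub_self, zero_add] at h2
  rw [zero_add] at h3
  exact List.all_eq_true.2 fun a ha => decide_eq_true (by rw [ent_eq h1 (h1 a ha), vE_zero h2 h3])

noncomputable def tb (m r : ℕ) : Bool := Nat.beq (Nat.land (Nat.shiftRight m r) 1) 1

theorem tb_eq (m r : ℕ) : tb m r = m.testBit r := by
  show Nat.beq ((m >>> r) &&& 1) 1 = (1 &&& (m >>> r) != 0)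
  rw [Nat.one_and_eq_mod_two, Nat.and_one_is_mod]
  rcases Nat.mod_two_eq_zero_or_one (m >>> r) with h | h <;> rw [h] <;> rfl

/-- commutator minus `R`, and `A B A` -/
noncomputable def cm (A B R : Sp) : Bool :=
  Bool.rec false (z (ml (ml A B []) A [])) (z (ml A B (sc (-1) (ml B A []) R)))

theorem cm_of {A B R : Sp} (h : cm A B R = true) :
    zr (mulS A B ++ (scl (-1) (mulS B A) ++ R)) = true ∧ zr (mulS (mulS A B) A) = true := by
  have h1 : (z (ml A B (sc (-1) (ml B A []) R)) && z (ml (ml A B []) A [])) = true := by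
    unfold cm at h
    revert h
    cases z (ml A B (sc (-1) (ml B A []) R)) <;> exact id
  simp only [Bool.and_eq_true, ml_eq, sc_eq, List.append_nil] at h1
  exact ⟨zr_of h1.1, zr_of h1.2⟩

variable (T : Tb) (D : ChevalleyDatum)

noncomputable def c1 (A B : Sp) (l : List (ℕ × ℤ)) : Bool :=
  List.rec (cm A B []) (fun x t _ => List.rec (Prod.rec (fun u c => frc u fun u =>
    tb T.im u && cm A B (sc (Int.neg c) (nth [] T.es u) [])) x) (fun _ _ _ => false) t) l

theorem c1_of {A B : Sp} {l : List (ℕ × ℤ)} (h : c1 T A B l = true) : T.chk1 A B l = true := by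
  match l, h with
  | [], h =>
    have h1 := cm_of (R := []) h
    rw [List.append_nil] at h1
    exact (Bool.and_eq_true _ _).mpr h1
  | [(u, c)], h =>
    replace h : frc u (fun u => tb T.im u && cm A B (sc (Int.neg c) (nth [] T.es u) [])) = true := h
    rw [frc_eq, Bool.and_eq_true, tb_eq, sc_eq, List.append_nil, nth_eq] at h
    exact (Bool.and_eq_true _ _).mpr ⟨h.1, (Bool.and_eq_true _ _).mpr (cm_of h.2)⟩
  | _ :: _ :: _, h => cases h

noncomputable def cor (l : List ℕ) (v : List ℤ) : Sp :=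
  List.rec [] (fun i _ ih => sc (nth 0 v i) (nth [] T.hs i) ih) l

theorem cor_eq (r : ℕ) : cor T (List.range D.rank) (nth #[] D.coroot.toList r).toList = T.corS D r := by
  unfold Tb.corS
  induction List.range D.rank with
  | nil => rfl
  | cons i l ih =>
    rw [List.flatMap_cons, ← ih]
    show sc _ _ _ = _
    rw [sc_eq, nth_arr, nth_arr, nth_eq]
    rfl

noncomputable def mk (R : List (ℕ × Array (ℕ × ℤ))) : ℕ :=
  List.rec 0 (fun e _ k => Nat.lor (Nat.shiftLeft 1 e.1) k) R

theorem mk_eq (R : List (ℕ × Array (ℕ × ℤ))) : mk R = Tb.mask R := by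
  induction R with
  | nil => rfl
  | cons e R ih => exact congrArg₂ Nat.lor (Nat.one_shiftLeft _) ih

/-- the fast check of a row -/
noncomputable def ok (ca : ℕ → ℕ → ℤ) (p : Tb.Rw) : Bool :=
  Tb.Rw.rec (fun r n K rm cm' A =>
    tb T.im r && Nat.beq (nth 0 D.negIdx.toList r) n && !(Nat.beq n r) && tb T.im n && decide (nth [] T.es r = A) &&
    (al A fun a => tb rm a.1 && tb cm' a.2.1) && z (ml A A []) &&
    (z (sc 2 (ml A (nth [] T.es n) []) (sc (-2) (ml (nth [] T.es n) A [])
      (sc (-1) (cor T (List.range D.rank) (nth #[] D.coroot.toList r).toList) []))) &&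
      z (ml (ml A (nth [] T.es n) []) A (sc (-1) A []))) &&
    (al (List.range D.rank) fun i => cm A (nth [] T.hs i) (sc (Int.mul 2 (ca i r)) A [])) &&
    (al (nth #[] D.chain.toList r).toList fun e => Prod.rec (fun s l => frc s fun s =>
      Bool.rec true (c1 T A (nth [] T.es s) l.toList) (tb T.im s)) e) &&
    Nat.beq K (mk (nth #[] D.chain.toList r).toList)) p

theorem ok_of {p : Tb.Rw} (h : ok T D D.cartan p = true) : Tb.Rw.ok T D p = true := by
  obtain ⟨r, n, K, rm, cm', A⟩ := p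
  unfold ok at h
  unfold Tb.Rw.ok Tb.chkn Tb.chkh
  simp only [cor_eq] at h
  simp only [Bool.and_eq_true, al_eq, List.all_eq_true, tb_eq, mk_eq, ml_eq, sc_eq, List.append_nil, nth_arr] at h ⊢
  simp only [nth_eq] at h
  obtain ⟨⟨⟨⟨⟨⟨⟨⟨⟨⟨h1, h2⟩, h3⟩, h4⟩, h5⟩, h6⟩, h7⟩, h8, h8'⟩, h9⟩, h10⟩, h11⟩ := h
  refine ⟨⟨⟨⟨⟨⟨⟨⟨⟨⟨h1, h2⟩, h3⟩, h4⟩, h5⟩, h6⟩, zr_of h7⟩, zr_of h8, zr_of h8'⟩, fun i hi => cm_of (h9 i hi)⟩,
    fun e he => ?_⟩, h11⟩
  obtain ⟨s, l⟩ := e
  have h := h10 _ he
  change frc s _ = true at h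
  rw [frc_eq] at h
  show (!T.im.testBit s || T.chk1 A (T.es.getD s []) l.toList) = true
  revert h
  cases T.im.testBit s
  · exact fun _ => rfl
  · exact fun h => c1_of T h

theorem allOk_of {ca : ℕ → ℕ → ℤ} (e : D.cartan = ca) {rws : List Tb.Rw} (h : al rws (ok T D ca) = true) :
    rws.all (fun p => Tb.Rw.ok T D p) = true := by
  rw [al_eq, ← e] at h
  exact List.all_eq_true.2 fun p hp => ok_of T D (List.all_eq_true.1 h p hp)

noncomputable def pr (p q : Tb.Rw) : Bool :=
  Bool.rec (Bool.rec (Bool.rec (Bool.rec (cm p.A q.A []) true (Nat.beq q.r p.n)) true (Nat.beq p.r q.r)) true (tb p.K q.r)) true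
    (Nat.beq (Nat.lor (Nat.land p.cm q.rm) (Nat.land q.cm p.rm)) 0)

theorem allPr_of {rws : List Tb.Rw} (h : al rws (fun p => al rws (pr p)) = true) :
    rws.all (fun p => rws.all fun q => Tb.pairOk p q) = true := by
  simp only [al_eq, List.all_eq_true] at h ⊢
  intro p hp q hq
  have h1 := h p hp q hq
  unfold pr at h1
  unfold Tb.pairOk
  rw [tb_eq] at h1
  simp only [Bool.or_eq_true, Bool.and_eq_true]
  cases e1 : Nat.beq (Nat.lor (Nat.land p.cm q.rm) (Nat.land q.cm p.rm)) 0
  · rw [e1] at h1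
    revert h1
    cases p.K.testBit q.r
    · cases Nat.beq p.r q.r
      · cases Nat.beq q.r p.n
        · intro h1
          have h2 := cm_of (R := []) h1
          rw [List.append_nil] at h2
          exact Or.inr h2
        · exact fun _ => Or.inl (Or.inl (Or.inr rfl))
      · exact fun _ => Or.inl (Or.inl (Or.inl (Or.inr rfl)))
    · exact fun _ => Or.inl (Or.inl (Or.inl (Or.inl rfl)))
  · have h2 := Nat.or_eq_zero_iff.1 (Nat.eq_of_beq_eq_true e1)
    exact Or.inl (Or.inr ⟨Nat.beq_eq ▸ h2.1, Nat.beq_eq ▸ h2.2⟩)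

end Fk

end Cfsg.Agent.H736.Co3

private theorem dce_3e653c2e753f : _root_.True := by
  try have : _root_.True := by simp only [_root_.Cfsg.Agent.H736.Co3.Tb.mask.eq_1]
  try have : _root_.True := by simp only [_root_.Cfsg.Agent.H736.Co3.scl.eq_1]
  try have : _root_.True := by simp only [_root_.Cfsg.Agent.H736.Co3.sm.congr_simp]
  try have : _root_.True := by simp only [_root_.Cfsg.Agent.H736.Co3.ix.congr_simp]
  try have : _root_.True := by simp only [_root_.Cfsg.Agent.H736.Co3.Tb.chk1.eq_1]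
  try have : _root_.True := by simp only [_root_.Cfsg.Agent.H736.Co3.Tb.corS.eq_1]
  try have : _root_.True := by simp only [_root_.Cfsg.Agent.H736.Co3.Tb.chk1.eq_2]
  try have : _root_.True := by simp only [_root_.Cfsg.Agent.H736.Co3.Tb.chk1._sparseCasesOn_1.else_eq]
  try have : _root_.True := by simp only [_root_.Cfsg.Agent.H736.Co3.Th.congr_simp]
  try have : _root_.True := by simp only [_root_.Cfsg.Agent.H736.Co3.ent.eq_1]
  try have : _root_.True := by simp only [_root_.Cfsg.Agent.H736.Co3.Tb.chk1.eq_3]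
  try have : _root_.True := by simp only [_root_.Cfsg.Agent.H736.Co3.mulS.eq_1]
  try have : _root_.True := by simp only [_root_.Cfsg.Agent.H736.Co3.Th.eq_1]
  try have : _root_.True := by simp only [_root_.Cfsg.Agent.H736.Co3.Tb.Rw.ok.eq_1]
  exact _root_.True.intro
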